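import Cfsg.Agent.S5945

/-!
# Subgroups of index six in `A₆` containing a given element of order three
-/

set_option autoImplicit false
set_option linter.style.haveILetI false
set_option linter.unusedSectionVars false

namespace Cfsg.Agent.ZTwoSFour

open Equiv Equiv.Perm

/-- A subgroup of order 60 or 120 with a three-cycle fixes a point. -/
theorem exists_fixed (K : Subgroup (Perm (Fin 6))) (hK : Nat.card K = 60 ∨ Nat.card K = 120)
    {y : Perm (Fin 6)} (hy : y ∈ K) (hy3 : y.IsThreeCycle) : ∃ b : Fin 6, ∀ k ∈ K, k b = b := by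
  classical
  obtain ⟨a, ha⟩ : ∃ a, y a = a := by
    by_contra h
    push_neg at h
    have h1 : y.support = Finset.univ := Finset.eq_univ_iff_forall.2 fun a => mem_support.2 (h a)
    have := hy3.card_support
    rw [h1] at this
    simp at this
  set O : Finset (Fin 6) := Finset.univ.filter fun b => ∃ k ∈ K, k a = b with hO
  have hOmem : ∀ b, b ∈ O ↔ ∃ k ∈ K, k a = b := fun b => by simp [hO]
  have hinv : ∀ k ∈ K, ∀ b, k b ∈ O ↔ b ∈ O := by
    intro k hk b
    rw [hOmem, hOmem]
    constructor
    · rintro ⟨m, hm, e⟩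
      exact ⟨k⁻¹ * m, mul_mem (inv_mem hk) hm, by simp [e]⟩
    · rintro ⟨m, hm, e⟩
      exact ⟨k * m, mul_mem hk hm, by simp [e]⟩
  have horb : MulAction.orbit K a = (O : Set (Fin 6)) := by
    ext b
    rw [Finset.mem_coe, hOmem]
    exact ⟨fun ⟨⟨k, hk⟩, e⟩ => ⟨k, hk, e⟩, fun ⟨k, hk, e⟩ => ⟨⟨k, hk⟩, e⟩⟩
  have hstab : O.card * Nat.card (MulAction.stabilizer K a) = Nat.card K := by
    rw [← (MulAction.stabilizer K a).index_mul_card, MulAction.index_stabilizer, horb]
    congr 1
    exact (Set.ncard_coe_finset O).symm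
  have h3 : 3 ∣ Nat.card (MulAction.stabilizer K a) := by
    rw [← hy3.orderOf, ← Subgroup.orderOf_mk y hy]
    exact Subgroup.orderOf_dvd_natCard _ (MulAction.mem_stabilizer_iff.2 ha)
  -- `K` embeds into the product of the symmetric groups on `O` and on its complement
  have hle : Nat.card K ≤ O.card.factorial * (6 - O.card).factorial := by
    let f : K → Perm {b // b ∈ O} × Perm {b // b ∉ O} := fun k =>
      ((k : Perm (Fin 6)).subtypePerm (fun b => hinv k k.2 b),
        (k : Perm (Fin 6)).subtypePerm (fun b => not_congr (hinv k k.2 b)))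
    have hf : Function.Injective f := by
      intro k m e
      refine Subtype.ext (Equiv.ext fun b => ?_)
      by_cases hb : b ∈ O
      · exact congrArg Subtype.val (DFunLike.congr_fun (congrArg Prod.fst e) ⟨b, hb⟩)
      · exact congrArg Subtype.val (DFunLike.congr_fun (congrArg Prod.snd e) ⟨b, hb⟩)
    refine (Nat.card_le_card_of_injective f hf).trans (le_of_eq ?_)
    rw [Nat.card_prod, Nat.card_perm, Nat.card_perm, Nat.card_eq_fintype_card,
      Nat.card_eq_fintype_card, Fintype.card_subtype_compl, Fintype.card_coe, Fintype.card_fin]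
  have haO : a ∈ O := (hOmem a).2 ⟨1, one_mem _, rfl⟩
  have hcO : O.card ≤ 6 := by simpa using Finset.card_le_univ O
  have hpos : 0 < O.card := Finset.card_pos.2 ⟨a, haO⟩
  rcases (show O.card = 1 ∨ O.card = 2 ∨ O.card = 3 ∨ O.card = 4 ∨ O.card = 5 ∨ O.card = 6 by omega)
    with h | h | h | h | h | h
  · refine ⟨a, fun k hk => ?_⟩
    obtain ⟨b, hb⟩ := Finset.card_eq_one.1 h
    rw [hb] at haO
    have := (hinv k hk a).2 (hb ▸ haO)
    rw [hb, Finset.mem_singleton] at this
    rw [this, ← Finset.mem_singleton.1 haO]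
  iterate 3
    exfalso
    rw [h] at hle
    rcases hK with hK | hK <;> rw [hK] at hle <;> norm_num [Nat.factorial] at hle
  · obtain ⟨b, hb⟩ : ∃ b, Oᶜ = {b} := Finset.card_eq_one.1 (by
      rw [Finset.card_compl, h, Fintype.card_fin])
    refine ⟨b, fun k hk => ?_⟩
    have hbO : b ∉ O := Finset.mem_compl.1 (hb ▸ Finset.mem_singleton_self b)
    have := Finset.mem_compl.2 (fun h' => hbO ((hinv k hk b).1 h'))
    rw [hb, Finset.mem_singleton] at this
    exact this
  · exfalso
    rw [h] at hstab
    obtain ⟨m, hm⟩ := h3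
    omega

/-- A subgroup of `A₆` of index six with a three-cycle is a point stabilizer. -/
theorem eq_stabilizer {K : Subgroup (alternatingGroup (Fin 6))} (hK : K.index = 6)
    {y : alternatingGroup (Fin 6)} (hy : y ∈ K) (hy3 : (y : Perm (Fin 6)).IsThreeCycle) :
    ∃ b : Fin 6, K = MulAction.stabilizer (alternatingGroup (Fin 6)) b := by
  have hK60 : Nat.card K = 60 := by
    have := K.card_mul_index
    have h360 : Nat.card (alternatingGroup (Fin 6)) = 360 := by
      rw [nat_card_alternatingGroup, Nat.card_fin]; rfl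
    rw [hK, h360] at this
    omega
  obtain ⟨b, hb⟩ := exists_fixed (K.map (alternatingGroup (Fin 6)).subtype)
    (Or.inl (by rw [Subgroup.card_map_of_injective (Subgroup.subtype_injective _), hK60]))
    ⟨y, hy, rfl⟩ hy3
  refine ⟨b, ?_⟩
  have hle : K ≤ MulAction.stabilizer (alternatingGroup (Fin 6)) b := fun k hk =>
    MulAction.mem_stabilizer_iff.2 (hb _ ⟨k, hk, rfl⟩)
  refine Subgroup.eq_of_le_of_card_ge hle ?_
  haveI : MulAction.IsPretransitive (alternatingGroup (Fin 6)) (Fin 6) :=
    alternatingGroup.isPretransitive_of_three_le_card _ (by simp)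
  have := (MulAction.stabilizer (alternatingGroup (Fin 6)) b).card_mul_index
  rw [MulAction.index_stabilizer_of_transitive, Nat.card_fin,
    show Nat.card (alternatingGroup (Fin 6)) = 360 by
      rw [nat_card_alternatingGroup, Nat.card_fin]; rfl] at this
  rw [hK60]
  omega

/-- Some automorphism of `A₆` carries a given element of order three to a three-cycle. -/
theorem exists_aut_three {y : alternatingGroup (Fin 6)} (hy : orderOf y = 3) :
    ∃ ψ : alternatingGroup (Fin 6) ≃* alternatingGroup (Fin 6),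
      (ψ y : Perm (Fin 6)).IsThreeCycle := by
  classical
  have hy' : orderOf (y : Perm (Fin 6)) = 3 := by rwa [Subgroup.orderOf_coe]
  have htypes : ∀ u : Perm (Fin 6), orderOf u = 3 →
      u.IsThreeCycle ∨ u.cycleType = Multiset.replicate 2 3 := by
    intro u hu
    obtain ⟨n, hn⟩ := cycleType_prime_order (hu ▸ Nat.prime_three)
    rw [hu] at hn
    have hs : u.cycleType.sum ≤ 6 := by
      rw [sum_cycleType]
      simpa using Finset.card_le_univ u.support
    rw [hn, Multiset.sum_replicate, smul_eq_mul] at hs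
    rcases (show n = 0 ∨ n = 1 by omega) with rfl | rfl
    · exact Or.inl hn
    · exact Or.inr hn
  rcases htypes _ hy' with h | h
  · exact ⟨MulEquiv.refl _, h⟩
  obtain ⟨H, hH, hns⟩ := S5945.exists_nonstab
  obtain ⟨φ, hφ⟩ := S5945.exists_aut hH
  have hH120 : Nat.card H = 120 := S5945.card_of_index hH
  haveI : Fact (Nat.Prime 3) := ⟨Nat.prime_three⟩
  obtain ⟨x, hx⟩ := exists_prime_orderOf_dvd_card' 3 (show 3 ∣ Nat.card H by rw [hH120]; norm_num)
  rw [← Subgroup.orderOf_coe] at hx
  have hx3 : (x : Perm (Fin 6)).cycleType = Multiset.replicate 2 3 := by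
    refine (htypes _ hx).resolve_left fun h3 => ?_
    obtain ⟨b, hb⟩ := exists_fixed H (Or.inr hH120) x.2 h3
    refine hns b (Subgroup.eq_of_le_of_card_ge (fun k hk => MulAction.mem_stabilizer_iff.2 (hb k hk)) ?_)
    rw [S5945.card_of_index (S5945.index_stab b), hH120]
  have hφx : φ x 0 = 0 := by
    exact (SetLike.ext_iff.1 hφ _).1 x.2
  have hφ3 : (φ x).IsThreeCycle := by
    refine (htypes _ (by rw [MulEquiv.orderOf_eq, hx])).resolve_right fun h2 => ?_
    have hsupp : (φ x).support.card = 6 := by
      rw [← sum_cycleType, h2]; rfl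
    have h0 : (φ x).support = Finset.univ := Finset.eq_univ_of_card _ (by rw [hsupp]; simp)
    have := h0 ▸ Finset.mem_univ (0 : Fin 6)
    rw [mem_support] at this
    exact this hφx
  have hφy : (φ y).IsThreeCycle := by
    obtain ⟨g, hg⟩ := isConj_iff.1 (Equiv.Perm.isConj_iff_cycleType_eq.2 (hx3.trans h.symm))
    have : IsConj (φ x) (φ y) := isConj_iff.2 ⟨φ g, by rw [← hg, map_mul, map_mul, map_inv]⟩
    rw [Equiv.Perm.isConj_iff_cycleType_eq] at this
    exact this.symm.trans hφ3
  have hmem : ∀ g : Perm (Fin 6), g ∈ alternatingGroup (Fin 6) → φ g ∈ alternatingGroup (Fin 6) := by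
    intro g hg
    have := Subgroup.characteristic_iff_comap_eq.mp
      (inferInstance : (alternatingGroup (Fin 6)).Characteristic) φ
    rw [← this] at hg
    exact hg
  let ψ₀ : alternatingGroup (Fin 6) →* alternatingGroup (Fin 6) :=
    (φ.toMonoidHom.comp (alternatingGroup (Fin 6)).subtype).codRestrict _ fun g => hmem g g.2
  have hinj : Function.Injective ψ₀ := fun a b e =>
    Subtype.ext (φ.injective (congrArg Subtype.val e))
  exact ⟨MulEquiv.ofBijective ψ₀ (Finite.injective_iff_bijective.1 hinj), hφy⟩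

/-- Through every element of order three passes a subgroup of index six, unique up to conjugation. -/
theorem exists_index_six {y : alternatingGroup (Fin 6)} (hy : orderOf y = 3) :
    ∃ K : Subgroup (alternatingGroup (Fin 6)), K.index = 6 ∧ y ∈ K ∧
      ∀ K' : Subgroup (alternatingGroup (Fin 6)), K'.index = 6 → y ∈ K' →
        ∃ g : alternatingGroup (Fin 6), K' = K.map (MulAut.conj g).toMonoidHom := by
  classical
  obtain ⟨ψ, hψ⟩ := exists_aut_three hy
  obtain ⟨a, ha⟩ : ∃ a, (ψ y : Perm (Fin 6)) a = a := by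
    by_contra h
    push_neg at h
    have h1 : (ψ y : Perm (Fin 6)).support = Finset.univ :=
      Finset.eq_univ_iff_forall.2 fun a => mem_support.2 (h a)
    have := hψ.card_support
    rw [h1] at this
    simp at this
  haveI : MulAction.IsPretransitive (alternatingGroup (Fin 6)) (Fin 6) :=
    alternatingGroup.isPretransitive_of_three_le_card _ (by simp)
  set S := MulAction.stabilizer (alternatingGroup (Fin 6)) a with hS
  have hSi : S.index = 6 := by rw [hS, MulAction.index_stabilizer_of_transitive, Nat.card_fin]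
  refine ⟨S.comap ψ.toMonoidHom, ?_, MulAction.mem_stabilizer_iff.2 ha, fun K' hK' hyK' => ?_⟩
  · rw [Subgroup.index_comap_of_surjective _ ψ.surjective, hSi]
  obtain ⟨b, hb⟩ := eq_stabilizer (K := K'.map ψ.toMonoidHom)
    (by
      have h := Subgroup.index_map_equiv K' ψ
      exact h.trans hK') ⟨y, hyK', rfl⟩ hψ
  obtain ⟨g, hg⟩ := MulAction.exists_smul_eq (alternatingGroup (Fin 6)) a b
  obtain ⟨g', hg'⟩ := ψ.surjective g
  refine ⟨g', ?_⟩
  ext k
  have hk : k ∈ K' ↔ ψ k • b = b := by
    rw [← MulAction.mem_stabilizer_iff, ← hb]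
    exact (Subgroup.mem_map_iff_mem ψ.injective).symm
  rw [hk, Subgroup.mem_map_equiv]
  show ψ k • b = b ↔ ψ (g'⁻¹ * k * g') • a = a
  rw [map_mul, map_mul, map_inv, hg', mul_smul, mul_smul, hg, inv_smul_eq_iff, hg]

end Cfsg.Agent.ZTwoSFour
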