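import Cfsg.Agent.Lib.ZTwoSFour.Model
import Cfsg.Agent.Lib.Transfer.Thompson
import Cfsg.Agent.Lib.Transfer.Fusion
import Cfsg.Agent.Lib.DihedralCent.Identify

/-!
# An involution with centralizer `Z₂ × S₄`: an index-2 subgroup with dihedral centralizer
-/

set_option autoImplicit false
set_option linter.style.haveILetI false
set_option linter.unusedSectionVars false

namespace Cfsg.Agent.ZTwoSFour

open Subgroup

universe u

/-- The configuration: `C(t) ≅ Z₂ × S₄` contains a Sylow 2-subgroup which is the centralizer of its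
derived subgroup. -/
structure Config (G : Type u) [Group G] where
  t : G
  f : Mdl →* G
  inj : Function.Injective f
  ft : f t0 = t
  range : f.range = centralizer ({t} : Set G)
  syl : Sylow 2 G
  hsyl : (syl : Subgroup G) = (f.comp sylHom).range
  cz : centralizer ({f z0} : Set G) = (syl : Subgroup G)

theorem mem_centralizer_of_model {G : Type u} [Group G] {f : Mdl →* G} {a b : Mdl}
    (h : a * b = b * a) : f a ∈ centralizer ({f b} : Set G) :=
  mem_centralizer_singleton_iff.2 (by rw [← map_mul, ← map_mul, h])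

/-- Build the configuration. -/
theorem exists_config {G : Type u} [Group G] [Finite G] (t : G) (ht : orderOf t = 2) (T : Sylow 2 G)
    (htc : ∀ s ∈ (T : Subgroup G), s * t = t * s)
    (e : ↥(centralizer ({t} : Set G)) ≃* Mdl)
    (h2 : ∀ S : Sylow 2 G, centralizer ((⁅(S : Subgroup G), (S : Subgroup G)⁆ : Subgroup G) : Set G) =
      (S : Subgroup G)) :
    ∃ c : Config G, c.t = t := by
  classical
  haveI : Fact (Nat.Prime 2) := ⟨Nat.prime_two⟩
  let f : Mdl →* G := (centralizer ({t} : Set G)).subtype.comp e.symm.toMonoidHom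
  have hinj : Function.Injective f := fun a b h =>
    e.symm.injective (Subtype.ext h)
  have hrange : f.range = centralizer ({t} : Set G) := by
    ext g
    exact ⟨by rintro ⟨u, rfl⟩; exact (e.symm u).2, fun hg => ⟨e ⟨g, hg⟩, by simp [f]⟩⟩
  have hft : f t0 = t := by
    obtain ⟨u, hu⟩ : t ∈ f.range := hrange ▸ mem_centralizer_singleton_iff.2 rfl
    rw [← hu]
    refine congrArg f (central_eq u (fun v => hinj ?_) (hinj ?_) fun h => ?_).symm
    · rw [map_mul, map_mul, hu]
      exact mem_centralizer_singleton_iff.1 (hrange ▸ ⟨v, rfl⟩ : f v ∈ centralizer ({t} : Set G))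
    · rw [map_mul, hu, map_one, ← pow_two, ← ht, pow_orderOf_eq_one]
    · rw [h, map_one] at hu
      rw [← hu, orderOf_one] at ht
      omega
  have hTC : (T : Subgroup G) ≤ centralizer ({t} : Set G) := fun s hs =>
    mem_centralizer_singleton_iff.2 (htc s hs)
  have hcardC : Nat.card (centralizer ({t} : Set G)) = 48 := by
    rw [Nat.card_congr e.toEquiv, Nat.card_prod, Nat.card_perm, Nat.card_fin]
    simp [Nat.card_eq_fintype_card, Nat.factorial]
  have hv2 : (2 : ℕ) ^ (Nat.card G).factorization 2 ∣ 48 := by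
    rw [← T.card_eq_multiplicity, ← hcardC]
    exact card_dvd_of_le hTC
  set Tt := (f.comp sylHom).range with hTt
  have hT16 : Nat.card Tt = 16 := by
    rw [hTt, ← Nat.card_congr (MonoidHom.ofInjective (show Function.Injective (f.comp sylHom) from hinj.comp sylHom_injective)).toEquiv,
      Nat.card_prod, DihedralGroup.nat_card]
    simp [Nat.card_eq_fintype_card]
  have h16 : (2 : ℕ) ^ 4 ∣ Nat.card G := by
    rw [show (2 : ℕ) ^ 4 = 16 from rfl, ← hT16]
    exact Subgroup.card_subgroup_dvd_card _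
  have hmul : (Nat.card G).factorization 2 = 4 := by
    have h1 : 4 ≤ (Nat.card G).factorization 2 :=
      (Nat.prime_two.pow_dvd_iff_le_factorization Nat.card_pos.ne').1 h16
    by_contra hne
    have h5 : (2 : ℕ) ^ 5 ∣ 48 := (pow_dvd_pow 2 (by omega)).trans hv2
    norm_num at h5
  let S : Sylow 2 G := Sylow.ofCard Tt (by rw [hT16, hmul]; rfl)
  refine ⟨⟨t, f, hinj, hft, hrange, S, rfl, le_antisymm ?_ ?_⟩, rfl⟩
  · intro g hg
    rw [← h2 S, mem_centralizer_iff]
    intro k hk
    have hle : ⁅(S : Subgroup G), (S : Subgroup G)⁆ ≤ zpowers (f z0) := by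
      rw [commutator_le]
      rintro _ ⟨a, rfl⟩ _ ⟨b, rfl⟩
      rw [← map_commutatorElement, commutatorElement_def]
      rcases syl_commutator a b with h | h <;> rw [h]
      · rw [map_one]; exact one_mem _
      · show f (sylHom (1, DihedralGroup.r 2)) ∈ zpowers (f z0)
        rw [sylHom_z]
        exact mem_zpowers _
    obtain ⟨m, rfl⟩ := mem_zpowers_iff.1 (hle hk)
    exact ((Commute.symm (mem_centralizer_singleton_iff.1 hg)).zpow_left m).eq
  · rintro _ ⟨a, rfl⟩
    show f (sylHom a) ∈ centralizer ({f z0} : Set G)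
    rw [← sylHom_z]
    exact mem_centralizer_of_model (by rw [← map_mul, ← map_mul, syl_central])

namespace Config

variable {G : Type u} [Group G] [Finite G] (c : Config G)

theorem card_cz : Nat.card (centralizer ({c.f z0} : Set G)) = 16 := by
  rw [c.cz, c.hsyl, ← Nat.card_congr (MonoidHom.ofInjective
    (show Function.Injective (c.f.comp sylHom) from c.inj.comp sylHom_injective)).toEquiv,
    Nat.card_prod, DihedralGroup.nat_card]
  simp [Nat.card_eq_fintype_card]

theorem card_ct : Nat.card (centralizer ({c.t} : Set G)) = 48 := by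
  rw [← c.range, ← Nat.card_congr (MonoidHom.ofInjective c.inj).toEquiv, Nat.card_prod,
    Nat.card_perm, Nat.card_fin]
  simp [Nat.card_eq_fintype_card, Nat.factorial]

theorem conj_model (a b : Mdl) : IsConj (c.f (a * b * a⁻¹)) (c.f b) :=
  isConj_iff.2 ⟨c.f a⁻¹, by simp [mul_assoc]⟩

theorem card_centralizer_conj {x y : G} (h : IsConj x y) :
    Nat.card (centralizer ({x} : Set G)) = Nat.card (centralizer ({y} : Set G)) := by
  obtain ⟨g, rfl⟩ := isConj_iff.1 h
  refine Nat.card_congr ((MulAut.conj g).toEquiv.subtypeEquiv fun a => ?_)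
  rw [mem_centralizer_singleton_iff, mem_centralizer_singleton_iff]
  show a * x = x * a ↔ (g * a * g⁻¹) * (g * x * g⁻¹) = (g * x * g⁻¹) * (g * a * g⁻¹)
  rw [show (g * a * g⁻¹) * (g * x * g⁻¹) = g * (a * x) * g⁻¹ by group,
    show (g * x * g⁻¹) * (g * a * g⁻¹) = g * (x * a) * g⁻¹ by group, mul_left_inj, mul_right_inj]

theorem not_conj_t_z : ¬ IsConj c.t (c.f z0) := fun h => by
  have := card_centralizer_conj h
  rw [c.card_ct, c.card_cz] at this
  omega

theorem not_conj_tz_z : ¬ IsConj (c.f (t0 * z0)) (c.f z0) := by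
  intro h
  obtain ⟨g, hg⟩ := isConj_iff.1 h
  haveI : Fact (Nat.Prime 2) := ⟨Nat.prime_two⟩
  have hcent : ∀ u : Syl, (∀ a : Syl, a * u = u * a) →
      c.f (sylHom u) ∈ centralizer ((c.syl : Subgroup G) : Set G) := fun u hu => by
    rw [mem_centralizer_iff, c.hsyl]
    rintro _ ⟨a, rfl⟩
    rw [MonoidHom.comp_apply, ← map_mul, ← map_mul, ← map_mul, ← map_mul, hu]
  have hu := syl_central'
  have e0 := sylHom_tz
  obtain ⟨n, hn, hne⟩ := Transfer.exists_sylow_normalizer_conj_eq c.syl {c.f (t0 * z0)} g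
    (by rintro a (rfl : a = _); rw [e0]; exact hcent _ hu)
    (by rintro a (rfl : a = _); rw [hg, ← sylHom_z]; exact hcent _ syl_central)
  have h1 : n * c.f (t0 * z0) * n⁻¹ = c.f z0 := (hne _ rfl).trans hg
  -- `f z0` is the only non-trivial square of the Sylow 2-subgroup
  have hzr : c.f z0 ∈ (c.syl : Subgroup G) ∧ ∃ a : Syl, c.f (sylHom a) ^ 2 = c.f z0 := by
    refine ⟨c.hsyl ▸ ⟨_, by rw [MonoidHom.comp_apply, sylHom_z]⟩, (1, DihedralGroup.r 1), ?_⟩
    rw [pow_two, ← map_mul]
    exact congrArg c.f rot_sq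
  obtain ⟨a, ha⟩ := hzr.2
  have hna : n * c.f (sylHom a) * n⁻¹ ∈ (c.syl : Subgroup G) :=
    (mem_normalizer_iff.1 hn _).1 (c.hsyl ▸ ⟨a, rfl⟩)
  rw [c.hsyl] at hna
  obtain ⟨b, hb⟩ := hna
  have hnz : n * c.f z0 * n⁻¹ = c.f z0 := by
    rw [← ha, pow_two, show n * (c.f (sylHom a) * c.f (sylHom a)) * n⁻¹ =
      n * c.f (sylHom a) * n⁻¹ * (n * c.f (sylHom a) * n⁻¹) by group, ← hb, ← pow_two (c.f _),
      ha, MonoidHom.comp_apply, ← map_mul, ← map_mul]
    rcases syl_square b with e | e <;> rw [e]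
    · exfalso
      have : n * (c.f z0) * n⁻¹ = 1 := by
        rw [← ha, pow_two, show n * (c.f (sylHom a) * c.f (sylHom a)) * n⁻¹ =
          n * c.f (sylHom a) * n⁻¹ * (n * c.f (sylHom a) * n⁻¹) by group, ← hb,
          MonoidHom.comp_apply, ← map_mul, ← map_mul, e, map_one, map_one]
      rw [conj_eq_one_iff, ← c.f.map_one] at this
      exact absurd (c.inj this) z_ne
    · rw [sylHom_z]
  have := mul_left_cancel (mul_right_cancel (h1.trans hnz.symm))
  exact absurd (c.inj this) tz_ne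

/-- The conjugates of `z` in `C(t)` when a transposition is conjugate to `t`. -/
theorem eq_conj_z {u : Mdl} (ha : IsConj c.t (c.f a0)) (hta : IsConj c.t (c.f (t0 * a0)))
    (h : IsConj (c.f u) (c.f z0)) : ∃ k : Mdl, k * u * k⁻¹ = z0 := by
  have hu2 : u * u = 1 := c.inj (by
    obtain ⟨g, hg⟩ := isConj_iff.1 h.symm
    rw [map_mul, ← hg, map_one, show g * c.f z0 * g⁻¹ * (g * c.f z0 * g⁻¹) =
      g * (c.f z0 * c.f z0) * g⁻¹ by group, ← map_mul, z_sq, map_one]
    group)
  have hu1 : u ≠ 1 := by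
    rintro rfl
    rw [map_one, isConj_one_right, ← c.f.map_one] at h
    exact absurd (c.inj h) z_ne
  rcases involution_cases u hu2 hu1 with rfl | ⟨k, hk | hk | hk | hk⟩
  · rw [c.ft] at h
    exact absurd h c.not_conj_t_z
  · exact ⟨k, hk⟩
  all_goals exfalso; have hh := ((c.conj_model k u).trans h); rw [hk] at hh
  · exact c.not_conj_tz_z hh
  · exact c.not_conj_t_z (ha.trans hh)
  · exact c.not_conj_t_z (hta.trans hh)

theorem not_conj_both : ¬ (IsConj c.t (c.f a0) ∧ IsConj c.t (c.f (t0 * a0))) := by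
  rintro ⟨ha, hta⟩
  obtain ⟨g, hg⟩ := isConj_iff.1 ha.symm
  have hgz : g * c.f z0 * g⁻¹ ∈ centralizer ({c.t} : Set G) := by
    rw [mem_centralizer_singleton_iff, ← hg,
      show g * c.f z0 * g⁻¹ * (g * c.f a0 * g⁻¹) = g * (c.f z0 * c.f a0) * g⁻¹ by group,
      show g * c.f a0 * g⁻¹ * (g * c.f z0 * g⁻¹) = g * (c.f a0 * c.f z0) * g⁻¹ by group,
      ← map_mul, ← map_mul, za]
  rw [← c.range] at hgz
  obtain ⟨u, hu⟩ := hgz
  obtain ⟨k, hk⟩ := c.eq_conj_z ha hta (u := u) (isConj_iff.2 ⟨g⁻¹, by rw [hu]; group⟩)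
  set g' := c.f k * g with hg'
  have h1 : g' * c.f z0 * g'⁻¹ = c.f z0 := by
    rw [hg', show c.f k * g * c.f z0 * (c.f k * g)⁻¹ = c.f k * (g * c.f z0 * g⁻¹) * (c.f k)⁻¹ by group,
      ← hu, ← map_inv, ← map_mul, ← map_mul, hk]
  have h2 : g' * c.f a0 * g'⁻¹ = c.t := by
    rw [hg', show c.f k * g * c.f a0 * (c.f k * g)⁻¹ = c.f k * (g * c.f a0 * g⁻¹) * (c.f k)⁻¹ by group,
      hg]
    have : c.f k ∈ centralizer ({c.t} : Set G) := c.range ▸ ⟨k, rfl⟩
    rw [mem_centralizer_singleton_iff.1 this, mul_inv_cancel_right]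
  have hgT : g' ∈ centralizer ({c.t} : Set G) := by
    have hz : g' ∈ centralizer ({c.f z0} : Set G) :=
      mem_centralizer_singleton_iff.2 (mul_inv_eq_iff_eq_mul.1 h1)
    rw [c.cz, c.hsyl] at hz
    obtain ⟨a, ha'⟩ := hz
    rw [← c.range]
    exact ⟨sylHom a, ha'⟩
  have h3 : c.f a0 = c.t := by
    have := mem_centralizer_singleton_iff.1 hgT
    calc c.f a0 = g'⁻¹ * (g' * c.f a0 * g'⁻¹) * g' := by group
      _ = g'⁻¹ * (c.t * g') := by rw [h2]; group
      _ = c.t := by rw [← this]; group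
  rw [← c.ft] at h3
  exact absurd (c.inj h3) a_ne

/-- An index-2 normal subgroup not containing `t`, with dihedral centralizer of `z`. -/
theorem exists_index_two :
    ∃ H : Subgroup G, H.Normal ∧ H.index = 2 ∧ c.t ∉ H := by
  classical
  haveI : Fact (Nat.Prime 2) := ⟨Nat.prime_two⟩
  obtain ⟨ε, hε⟩ : ∃ ε : Bool, ¬ IsConj c.t (c.f (if ε then t0 * a0 else a0)) := by
    by_contra h
    push_neg at h
    exact c.not_conj_both ⟨by simpa using h false, by simpa using h true⟩
  set Q : Subgroup G := ((c.f.comp sylHom).comp (sideHom ε)).range with hQ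
  have hQP : Q ≤ (c.syl : Subgroup G) := by
    rw [c.hsyl, hQ]
    rintro _ ⟨d, rfl⟩
    exact ⟨side ε d, rfl⟩
  have hinj : Function.Injective ((c.f.comp sylHom).comp (sideHom ε)) :=
    (c.inj.comp sylHom_injective).comp (side_injective ε)
  have hQi : Q.relIndex (c.syl : Subgroup G) = 2 := by
    have h1 := Subgroup.relIndex_mul_relIndex ⊥ Q (c.syl : Subgroup G) bot_le hQP
    have hQ8 : Nat.card Q = 8 := by
      rw [hQ, ← Nat.card_congr (MonoidHom.ofInjective hinj).toEquiv, DihedralGroup.nat_card]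
    have hS16 : Nat.card (c.syl : Subgroup G) = 16 := by rw [← c.cz, c.card_cz]
    rw [relIndex_bot_left, relIndex_bot_left, hQ8, hS16] at h1
    omega
  have htS : c.t ∈ (c.syl : Subgroup G) :=
    c.hsyl ▸ ⟨(Multiplicative.ofAdd 1, 1), by rw [MonoidHom.comp_apply, sylHom_t, c.ft]⟩
  have ht2 : c.t ^ 2 = 1 := by
    rw [← c.ft, ← map_pow, t_sq, map_one]
  have hnot : ∀ g : G, g * c.t * g⁻¹ ∉ Q := by
    rintro g ⟨d, hd⟩
    have hd' : c.f (sylHom (side ε d)) = g * c.t * g⁻¹ := hd
    have hc : IsConj c.t (c.f (sylHom (side ε d))) := isConj_iff.2 ⟨g, hd'.symm⟩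
    have hd2 : d * d = 1 := hinj (by
      rw [map_mul, hd, map_one, show g * c.t * g⁻¹ * (g * c.t * g⁻¹) = g * (c.t * c.t) * g⁻¹ by group,
        ← pow_two, ht2]
      group)
    have hd1 : d ≠ 1 := by
      rintro rfl
      rw [map_one, eq_comm, conj_eq_one_iff] at hd
      rw [← c.ft, ← c.f.map_one] at hd
      exact absurd (c.inj hd) t_ne
    obtain ⟨k, hk | hk⟩ := side_involution ε d hd2 hd1
    · exact c.not_conj_t_z (hc.trans (hk ▸ c.conj_model k _).symm)
    · exact hε (hc.trans (hk ▸ c.conj_model k _).symm)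
  obtain ⟨H, hHn, hHi, htH⟩ := Transfer.exists_index_two_of_involution c.syl Q hQP hQi c.t ht2 htS
    (fun h => hnot 1 (by simpa using h)) hnot
  exact ⟨H, hHn, hHi, htH⟩

variable (H : Subgroup G) [H.Normal] (hidx : H.index = 2) (ht : c.t ∉ H)
include hidx

theorem z_mem : c.f z0 ∈ H := by
  rw [← rot_sq, map_mul]
  exact Subgroup.mul_self_mem_of_index_two hidx _

include ht

theorem dihedral_cent : Nonempty (BSW.DihedralCent H) := by
  classical
  set z : H := ⟨c.f z0, c.z_mem H hidx⟩ with hzdef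
  have hz : orderOf z = 2 := by
    rw [← Subgroup.orderOf_coe, hzdef]
    rw [orderOf_injective c.f c.inj z0]
    exact orderOf_eq_prime (by decide) (by decide)
  -- pairs (a, d) with image in `H`
  have hbool : ∀ i : Multiplicative (ZMod 2), i = 1 ∨ i = 1 * Multiplicative.ofAdd 1 := by decide
  have hmem : ∀ d : DihedralGroup 4, ∃! i : Multiplicative (ZMod 2), c.f (sylHom (i, d)) ∈ H := by
    intro d
    have hmul : ∀ i : Multiplicative (ZMod 2),
        c.f (sylHom (i * Multiplicative.ofAdd 1, d)) = c.t * c.f (sylHom (i, d)) := fun i => by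
      rw [← c.ft, ← sylHom_t, ← map_mul, ← map_mul, Prod.mk_mul_mk, one_mul, mul_comm]
    have hx : ∀ i : Multiplicative (ZMod 2),
        c.f (sylHom (i * Multiplicative.ofAdd 1, d)) ∈ H ↔ c.f (sylHom (i, d)) ∉ H := fun i => by
      rw [hmul, Subgroup.mul_mem_iff_of_index_two hidx]
      exact ⟨fun h h' => ht (h.2 h'), fun h => iff_of_false ht h⟩
    by_cases h1 : c.f (sylHom (1, d)) ∈ H
    · refine ⟨1, h1, fun i hi => ?_⟩
      by_contra hne
      have : i = 1 * Multiplicative.ofAdd 1 := (hbool i).resolve_left hne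
      subst this
      exact (hx 1).1 hi h1
    · refine ⟨1 * Multiplicative.ofAdd 1, (hx 1).2 h1, fun i hi => ?_⟩
      by_contra hne
      have : i = 1 := (hbool i).resolve_right hne
      subst this
      exact h1 hi
  choose σ hσ hσu using hmem
  have hσmul : ∀ a b, σ (a * b) = σ a * σ b := fun a b => by
    refine (hσu _ _ ?_).symm
    show c.f (sylHom (σ a * σ b, a * b)) ∈ H
    rw [← Prod.mk_mul_mk, map_mul, map_mul]
    exact H.mul_mem (hσ a) (hσ b)
  let toC : DihedralGroup 4 →* ↥(centralizer ({z} : Set H)) := MonoidHom.mk'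
    (fun d => ⟨⟨c.f (sylHom (σ d, d)), hσ d⟩, mem_centralizer_singleton_iff.2 (Subtype.ext (by
      show c.f (sylHom (σ d, d)) * c.f z0 = c.f z0 * c.f (sylHom (σ d, d))
      rw [← sylHom_z, ← map_mul, ← map_mul, ← map_mul, ← map_mul, syl_central]))⟩)
    fun a b => Subtype.ext (Subtype.ext (by
      show c.f (sylHom (σ (a * b), a * b)) = c.f (sylHom (σ a, a)) * c.f (sylHom (σ b, b))
      rw [hσmul, ← map_mul, ← map_mul, Prod.mk_mul_mk]))
  have hbij : Function.Bijective toC := by
    refine ⟨fun a b h => ?_, fun w => ?_⟩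
    · have h' : c.f (sylHom (σ a, a)) = c.f (sylHom (σ b, b)) :=
        congrArg (fun w : ↥(centralizer ({z} : Set H)) => ((w : H) : G)) h
      exact (Prod.mk.inj (sylHom_injective (c.inj h'))).2
    · obtain ⟨⟨g, hgH⟩, hgc⟩ := w
      have : g ∈ centralizer ({c.f z0} : Set G) :=
        mem_centralizer_singleton_iff.2 (congrArg Subtype.val (mem_centralizer_singleton_iff.1 hgc))
      rw [c.cz, c.hsyl] at this
      obtain ⟨⟨i, d⟩, hd⟩ := this
      refine ⟨d, Subtype.ext (Subtype.ext ?_)⟩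
      show c.f (sylHom (σ d, d)) = g
      rw [← hσu d i (show c.f (sylHom (i, d)) ∈ H by rw [← MonoidHom.comp_apply, hd]; exact hgH),
        ← MonoidHom.comp_apply, hd]
  exact ⟨⟨z, hz, (MulEquiv.ofBijective toC hbij).symm⟩⟩

end Config

end Cfsg.Agent.ZTwoSFour
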