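import Cfsg.Agent.Lib.ZTwoSFour.Basic
import Cfsg.Agent.Lib.ZTwoSFour.AltSix
import Cfsg.Agent.Lib.SmallSimple.Low
import Cfsg.Agent.S3035
import Cfsg.Agent.S0678
import Cfsg.Agent.S4203

/-!
# An involution with centralizer `Z₂ × S₄`: the group is `Z₂ × S₄` or `S₆`
-/

set_option autoImplicit false
set_option linter.style.haveILetI false
set_option linter.unusedSectionVars false

namespace Cfsg.Agent.ZTwoSFour

open Subgroup

universe u

variable {G : Type u} [Group G] [Finite G]

namespace Config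

/-- The odd core of `H` is trivial. -/
theorem oddCore_eq_bot (c : Config G) (H : Subgroup G) [H.Normal] (hidx : H.index = 2) :
    oddCore H = ⊥ := by
  set O := (oddCore H).map H.subtype with hO
  suffices h : O = ⊥ from (Subgroup.map_eq_bot_iff_of_injective _ H.subtype_injective).1 h
  have hodd : Odd (Nat.card O) := by
    rw [hO, Subgroup.card_map_of_injective H.subtype_injective]
    exact PCore.odd_card_oddCore
  haveI hn : O.Normal := by
    haveI : (oddCore H).Characteristic := inferInstanceAs (pPrimeCore 2 H).Characteristic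
    exact ConjAct.normal_of_characteristic_of_normal
  -- an involution conjugate to `z` inverts `O`
  have key : ∀ w : Mdl, IsConj (c.f w) (c.f z0) → ∀ o ∈ O, c.f w * o * (c.f w)⁻¹ = o⁻¹ := by
    intro w hw o ho
    have hfix : ∀ a ∈ O, c.f w * a = a * c.f w → a = 1 := by
      intro a ha hc
      have h16 := card_centralizer_conj hw
      rw [c.card_cz] at h16
      have h1 : orderOf a ∣ 16 := h16 ▸
        Subgroup.orderOf_dvd_natCard _ (mem_centralizer_singleton_iff.2 hc.symm)
      have h2 := Subgroup.orderOf_dvd_natCard _ ha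
      rw [← orderOf_eq_one_iff]
      refine Nat.eq_one_of_dvd_coprimes ?_ h1 h2
      exact (Nat.coprime_two_left.2 hodd).pow_left 4
    obtain ⟨g, hg⟩ := isConj_iff.1 hw.symm
    have hww : c.f w * c.f w = 1 := by
      rw [← hg, show g * c.f z0 * g⁻¹ * (g * c.f z0 * g⁻¹) = g * (c.f z0 * c.f z0) * g⁻¹ by group,
        ← map_mul, z_sq, map_one]
      group
    let d : O → O := fun a => ⟨(a : G)⁻¹ * (c.f w * a * (c.f w)⁻¹),
      mul_mem (inv_mem a.2) (hn.conj_mem _ a.2 _)⟩
    have hd : Function.Injective d := by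
      intro a b hab
      have e : (a : G)⁻¹ * (c.f w * a * (c.f w)⁻¹) = (b : G)⁻¹ * (c.f w * b * (c.f w)⁻¹) :=
        congrArg Subtype.val hab
      have h1 : (b : G) * (a : G)⁻¹ = 1 := by
        refine hfix _ (mul_mem b.2 (inv_mem a.2)) ?_
        calc c.f w * ((b : G) * (a : G)⁻¹)
            = b * ((b : G)⁻¹ * (c.f w * b * (c.f w)⁻¹)) *
                ((a : G)⁻¹ * (c.f w * a * (c.f w)⁻¹))⁻¹ * (a : G)⁻¹ * c.f w := by group
          _ = (b : G) * (a : G)⁻¹ * c.f w := by rw [e]; group
      exact Subtype.ext (eq_of_mul_inv_eq_one h1).symm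
    obtain ⟨a, ha⟩ := Finite.surjective_of_injective hd ⟨o, ho⟩
    have hoa : o = (a : G)⁻¹ * (c.f w * a * (c.f w)⁻¹) := (congrArg Subtype.val ha).symm
    have hwi : (c.f w)⁻¹ = c.f w := inv_eq_of_mul_eq_one_right hww
    rw [hoa]
    calc c.f w * ((a : G)⁻¹ * (c.f w * a * (c.f w)⁻¹)) * (c.f w)⁻¹
        = c.f w * (a : G)⁻¹ * (c.f w * a * ((c.f w)⁻¹ * (c.f w)⁻¹)) := by group
      _ = c.f w * (a : G)⁻¹ * (c.f w)⁻¹ * a := by
        rw [← mul_inv_rev, hww, inv_one, mul_one, hwi]; group
      _ = ((a : G)⁻¹ * (c.f w * a * (c.f w)⁻¹))⁻¹ := by group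
  rw [eq_bot_iff]
  intro o ho
  rw [mem_bot]
  have hv : IsConj (c.f v0) (c.f z0) := by
    obtain ⟨k, hk⟩ : ∃ k : Mdl, k * z0 * k⁻¹ = v0 :=
      ⟨(1, Equiv.swap 1 2), by decide +kernel⟩
    rw [← hk]; exact c.conj_model k z0
  have hzv : IsConj (c.f (z0 * v0)) (c.f z0) := by
    obtain ⟨k, hk⟩ : ∃ k : Mdl, k * z0 * k⁻¹ = z0 * v0 :=
      ⟨(1, Equiv.swap 1 3), by decide +kernel⟩
    rw [← hk]; exact c.conj_model k z0
  have e1 := key z0 (IsConj.refl _) o ho
  have e2 := key v0 hv o ho
  have e3 := key _ hzv o ho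
  rw [map_mul, show c.f z0 * c.f v0 * o * (c.f z0 * c.f v0)⁻¹ =
    c.f z0 * (c.f v0 * o * (c.f v0)⁻¹) * (c.f z0)⁻¹ by group, e2,
    show c.f z0 * o⁻¹ * (c.f z0)⁻¹ = (c.f z0 * o * (c.f z0)⁻¹)⁻¹ by group, e1, inv_inv] at e3
  have h2 : orderOf o ∣ 2 := orderOf_dvd_of_pow_eq_one (by
    rw [pow_two]; exact mul_eq_one_iff_eq_inv.2 e3)
  rw [← orderOf_eq_one_iff]
  exact Nat.eq_one_of_dvd_coprimes (Nat.coprime_two_left.2 hodd) h2
    (Subgroup.orderOf_dvd_natCard _ ho)

variable (c : Config G) (H : Subgroup G) [H.Normal] (hidx : H.index = 2) (ht : c.t ∉ H)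
include hidx ht

theorem card_centralizer_t : Nat.card ↥(H ⊓ centralizer ({c.t} : Set G)) = 24 := by
  set C := centralizer ({c.t} : Set G)
  have hCH : ¬ C ≤ H := fun h => ht (h (mem_centralizer_singleton_iff.2 rfl))
  have h1 : H.relIndex C = 2 := by
    have h : H.relIndex C ∣ 2 := hidx ▸ Subgroup.relIndex_dvd_index_of_normal H C
    rcases (Nat.dvd_prime Nat.prime_two).1 h with e | e
    · exact absurd (Subgroup.relIndex_eq_one.1 e) hCH
    · exact e
  have h2 := Subgroup.relIndex_mul_relIndex ⊥ (H ⊓ C) C bot_le inf_le_right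
  rw [relIndex_bot_left, relIndex_bot_left, Subgroup.inf_relIndex_right, h1, c.card_ct] at h2
  omega

/-- No automorphism induced by `t` on `H` is inner. -/
theorem core_eq_bot (hcenter : ∀ l : H, (∀ h : H, h * l = l * h) → l = 1)
    (hinv : ∀ l : H, l * l = 1 → Nat.card (centralizer ({l} : Set H)) ≠ 24)
    (K : Subgroup G) [K.Normal] (hK : K ⊓ H = ⊥) : K = ⊥ := by
  rw [eq_bot_iff]
  intro k hk
  rw [mem_bot]
  by_contra hk1
  have hkH : k ∉ H := fun h => hk1 (by rw [← mem_bot, ← hK]; exact ⟨hk, h⟩)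
  have hcomm : ∀ h ∈ H, h * k = k * h := fun h hh =>
    (Subgroup.commute_of_normal_of_disjoint H K inferInstance inferInstance
      (disjoint_iff.2 (by rw [inf_comm, hK])) h k hh hk).eq
  have hl : k⁻¹ * c.t ∈ H := by
    rw [Subgroup.mul_mem_iff_of_index_two hidx, inv_mem_iff]
    exact iff_of_false hkH ht
  set l : H := ⟨k⁻¹ * c.t, hl⟩ with hldef
  have hconj : ∀ h ∈ H, (k⁻¹ * c.t) * h * (k⁻¹ * c.t)⁻¹ = c.t * h * c.t⁻¹ := by
    intro h hh
    have := hcomm _ (‹H.Normal›.conj_mem h hh c.t)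
    calc (k⁻¹ * c.t) * h * (k⁻¹ * c.t)⁻¹ = k⁻¹ * (c.t * h * c.t⁻¹ * k) := by group
      _ = c.t * h * c.t⁻¹ := by rw [this]; group
  have htt : c.t * c.t = 1 := by rw [← c.ft, ← map_mul, ← pow_two, t_sq, map_one]
  have hl2 : l * l = 1 := by
    refine hcenter _ fun h => Subtype.ext ?_
    have e1 := hconj _ h.2
    have e2 := hconj _ (‹H.Normal›.conj_mem _ h.2 c.t)
    rw [← e1] at e2
    show (h : G) * ((k⁻¹ * c.t) * (k⁻¹ * c.t)) = (k⁻¹ * c.t) * (k⁻¹ * c.t) * h
    refine (mul_inv_eq_iff_eq_mul.1 ?_).symm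
    calc k⁻¹ * c.t * (k⁻¹ * c.t) * h * (k⁻¹ * c.t * (k⁻¹ * c.t))⁻¹
        = k⁻¹ * c.t * (k⁻¹ * c.t * h * (k⁻¹ * c.t)⁻¹) * (k⁻¹ * c.t)⁻¹ := by group
      _ = c.t * (c.t * h * c.t⁻¹) * c.t⁻¹ := by rw [e2, e1]
      _ = c.t * c.t * h * (c.t * c.t)⁻¹ := by group
      _ = h := by rw [htt]; group
  refine hinv l hl2 ?_
  rw [← c.card_centralizer_t H hidx ht]
  refine Nat.card_congr ⟨fun h => ⟨(h.1 : G), Subgroup.mem_inf.2 ⟨h.1.2, ?_⟩⟩, fun g => ⟨⟨g.1, (Subgroup.mem_inf.1 g.2).1⟩, ?_⟩,
    fun _ => rfl, fun _ => rfl⟩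
  · refine mem_centralizer_singleton_iff.2 (mul_inv_eq_iff_eq_mul.1 ?_).symm
    rw [← hconj _ h.1.2]
    refine mul_inv_eq_iff_eq_mul.2 ?_
    exact (congrArg Subtype.val (mem_centralizer_singleton_iff.1 h.2)).symm
  · refine mem_centralizer_singleton_iff.2 (Subtype.ext ?_)
    refine (mul_inv_eq_iff_eq_mul.1 ?_).symm
    show k⁻¹ * c.t * (g : G) * (k⁻¹ * c.t)⁻¹ = g
    rw [hconj _ (Subgroup.mem_inf.1 g.2).1]
    refine mul_inv_eq_iff_eq_mul.2 ?_
    exact (mem_centralizer_singleton_iff.1 (Subgroup.mem_inf.1 g.2).2).symm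

omit ht in
theorem card_G : Nat.card G = Nat.card H * 2 := by rw [← H.card_mul_index, hidx]

/-- The core of `C(t)` is trivial. -/
theorem normalCore_eq_bot (hcenter : ∀ l : H, (∀ h : H, h * l = l * h) → l = 1)
    (hinv : ∀ l : H, l * l = 1 → Nat.card (centralizer ({l} : Set H)) ≠ 24)
    (hnor : ∀ M : Subgroup H, M.Normal → M = ⊥ ∨ 24 < Nat.card M)
    (S : Subgroup G) (hS : Nat.card ↥(S ⊓ H) ≤ 60 ∧ (24 < Nat.card ↥(S ⊓ H) → IsSimpleGroup H ∧
      60 < Nat.card H)) : S.normalCore = ⊥ := by
  haveI := Subgroup.normalCore_normal S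
  refine c.core_eq_bot H hidx ht hcenter hinv _ ?_
  have hn : (S.normalCore.subgroupOf H).Normal := inferInstance
  have hcard : Nat.card (S.normalCore.subgroupOf H) ≤ Nat.card ↥(S ⊓ H) := by
    refine Nat.le_of_dvd Nat.card_pos ?_
    rw [← Subgroup.card_map_of_injective H.subtype_injective, subgroupOf_map_subtype]
    exact Subgroup.card_dvd_of_le (inf_le_inf_right H S.normalCore_le)
  rcases hnor _ hn with e | e
  · rw [← subgroupOf_map_subtype, e, Subgroup.map_bot]
  · exfalso
    obtain ⟨hs, h60⟩ := hS.2 (by omega)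
    rcases hn.eq_bot_or_eq_top with e' | e'
    · rw [e', Subgroup.card_bot] at e
      omega
    · rw [e', Subgroup.card_top] at hcard
      omega

theorem no_five (φ : H ≃* Equiv.Perm (Fin 5)) : False := by
  classical
  have hH : Nat.card H = 120 := by
    rw [Nat.card_congr φ.toEquiv, Nat.card_perm, Nat.card_fin]; rfl
  have hcenter : ∀ l : H, (∀ h : H, h * l = l * h) → l = 1 := fun l hl => φ.injective (by
    rw [map_one]
    refine (fun p hp => ?_ : ∀ p : Equiv.Perm (Fin 5), (∀ q, q * p = p * q) → p = 1) _ fun q => ?_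
    · revert p; decide +kernel
    · obtain ⟨h, rfl⟩ := φ.surjective q
      rw [← map_mul, ← map_mul, hl])
  have hinv : ∀ l : H, l * l = 1 → Nat.card (centralizer ({l} : Set H)) ≠ 24 := fun l hl => by
    rw [show Nat.card (centralizer ({l} : Set H)) =
      Nat.card {q : Equiv.Perm (Fin 5) // φ l * q = q * φ l} from Nat.card_congr
        (φ.toEquiv.subtypeEquiv fun h => by
          rw [mem_centralizer_singleton_iff]
          show h * l = l * h ↔ φ l * φ h = φ h * φ l
          rw [← map_mul, ← map_mul, φ.injective.eq_iff]; exact eq_comm),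
      Nat.card_eq_fintype_card, Fintype.card_subtype]
    exact perm_five_centralizer _ (by rw [← map_mul, hl, map_one])
  have hnor : ∀ M : Subgroup H, M.Normal → M = ⊥ ∨ 24 < Nat.card M := fun M hM => by
    refine or_iff_not_imp_left.2 fun hne => ?_
    haveI : (M.map φ.toMonoidHom).Normal := hM.map _ φ.surjective
    haveI : Nontrivial (M.map φ.toMonoidHom) := (Subgroup.nontrivial_iff_ne_bot _).2 fun e =>
      hne ((Subgroup.map_eq_bot_iff_of_injective _ φ.injective).1 e)
    have hle := Equiv.Perm.alternatingGroup_le_of_normal (α := Fin 5) (N := M.map φ.toMonoidHom)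
      (by simp) inferInstance
    have h2 := Subgroup.card_le_of_le hle
    rw [Subgroup.card_map_of_injective φ.injective, nat_card_alternatingGroup, Nat.card_fin] at h2
    norm_num [Nat.factorial] at h2
    omega
  have hC := c.card_centralizer_t H hidx ht
  have hcore := c.normalCore_eq_bot H hidx ht hcenter hinv hnor (centralizer ({c.t} : Set G))
    ⟨by rw [inf_comm, hC]; norm_num, fun h => by rw [inf_comm, hC] at h; omega⟩
  have hi : (centralizer ({c.t} : Set G)).index = 5 := by
    have := (centralizer ({c.t} : Set G)).card_mul_index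
    rw [c.card_ct, card_G H hidx, hH] at this
    omega
  have hinj : Function.Injective (MulAction.toPermHom G (G ⧸ centralizer ({c.t} : Set G))) := by
    rw [← MonoidHom.ker_eq_bot_iff, ← Subgroup.normalCore_eq_ker, hcore]
  have := Nat.card_le_card_of_injective _ hinj
  rw [Nat.card_perm, ← Subgroup.index_eq_card, hi, card_G H hidx, hH] at this
  norm_num [Nat.factorial] at this

omit hidx ht in
theorem center_eq_one [IsSimpleGroup H] (hnc : ¬ IsMulCommutative H) :
    ∀ l : H, (∀ h : H, h * l = l * h) → l = 1 := fun l hl => by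
  rcases (inferInstance : (Subgroup.center H).Normal).eq_bot_or_eq_top with e | e
  · rw [← mem_bot, ← e, mem_center_iff]; exact hl
  · exact absurd ⟨⟨fun a b => (mem_center_iff.1 (e ▸ mem_top b) a)⟩⟩ hnc

theorem no_central_24 [IsSimpleGroup H] (hnc : ¬ IsMulCommutative H) (hH24 : Nat.card H ≠ 24) :
    ∀ l : H, l * l = 1 → Nat.card (centralizer ({l} : Set H)) ≠ 24 := fun l hl => by
  obtain ⟨D⟩ := c.dihedral_cent H hidx ht
  by_cases h1 : l = 1
  · rw [h1, show centralizer ({(1 : H)} : Set H) = ⊤ from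
      eq_top_iff.2 fun x _ => mem_centralizer_singleton_iff.2 (by simp), Subgroup.card_top]
    exact hH24
  have hconj := D.isConj_t (fun M hM h2 => by
      rcases hM.eq_bot_or_eq_top with e | e
      · rw [e, Subgroup.index_bot] at h2
        have := D.card_C
        have := Subgroup.card_subgroup_dvd_card D.C
        rw [D.card_C, h2] at this
        omega
      · rw [e, Subgroup.index_top] at h2
        omega) (orderOf_eq_prime (by rw [pow_two, hl]) h1)
  rw [← card_centralizer_conj hconj]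
  rw [show Nat.card (centralizer ({D.t} : Set H)) = Nat.card D.C from rfl, D.card_C]
  omega

theorem no_seven [IsSimpleGroup H] (hH : Nat.card H = 168) : False := by
  classical
  have hnc : ¬ IsMulCommutative H := fun hc => by
    letI : CommGroup H := { (inferInstance : Group H) with mul_comm := hc.1.comm }
    have := IsSimpleGroup.prime_card (α := H)
    rw [hH] at this
    norm_num at this
  have hnor : ∀ M : Subgroup H, M.Normal → M = ⊥ ∨ 24 < Nat.card M := fun M hM => by
    rcases hM.eq_bot_or_eq_top with e | e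
    · exact Or.inl e
    · rw [e, Subgroup.card_top, hH]; norm_num
  have hC := c.card_centralizer_t H hidx ht
  set C := centralizer ({c.t} : Set G) with hCdef
  have hcore := c.normalCore_eq_bot H hidx ht (center_eq_one H hnc)
    (c.no_central_24 H hidx ht hnc (by omega)) hnor C
    ⟨by rw [inf_comm, hC]; norm_num, fun h => by rw [inf_comm, hC] at h; omega⟩
  have hi : Nat.card (G ⧸ C) = 7 := by
    have := C.card_mul_index
    rw [hCdef, c.card_ct, card_G H hidx, hH] at this
    rw [← Subgroup.index_eq_card, hCdef]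
    omega
  haveI := Fintype.ofFinite (G ⧸ C)
  set f := MulAction.toPermHom G (G ⧸ C)
  have hinj : Function.Injective f := by
    rw [← MonoidHom.ker_eq_bot_iff, ← Subgroup.normalCore_eq_ker, hcore]
  have hG : Nat.card G = 336 := by rw [card_G H hidx, hH]
  haveI : MulAction.IsPretransitive f.range (G ⧸ C) := ⟨fun x y => by
    obtain ⟨g, hg⟩ := MulAction.exists_smul_eq G x y
    exact ⟨⟨f g, g, rfl⟩, hg⟩⟩
  have hcard : Nat.card f.range = 336 := by
    rw [← Nat.card_congr (MonoidHom.ofInjective hinj).toEquiv, hG]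
  have hns : ¬ Group.IsSolvable f.range := fun hs => by
    haveI := hs
    haveI : Group.IsSolvable G := Group.isSolvable_of_isSolvable_injective
      (f := (MonoidHom.ofInjective hinj).toMonoidHom) (MonoidHom.ofInjective hinj).injective
    exact hnc ⟨⟨(IsSimpleGroup.comm_iff_isSolvable (G := H)).2 inferInstance⟩⟩
  have hA : ¬ alternatingGroup (G ⧸ C) ≤ f.range := fun hle => by
    have h2 := Subgroup.card_le_of_le hle
    haveI : Nontrivial (G ⧸ C) := Finite.one_lt_card_iff_nontrivial.1 (by omega)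
    rw [nat_card_alternatingGroup, hi, hcard] at h2
    norm_num [Nat.factorial] at h2
  have := (Cfsg.Agent.S0678.result (by rw [← Nat.card_eq_fintype_card, hi]) f.range hns hA).1
  omega

theorem iso_six (φ : H ≃* alternatingGroup (Fin 6)) : Nonempty (G ≃* Equiv.Perm (Fin 6)) := by
  classical
  have hH : Nat.card H = 360 := by
    rw [Nat.card_congr φ.toEquiv, nat_card_alternatingGroup, Nat.card_fin]; rfl
  haveI : IsSimpleGroup (alternatingGroup (Fin 6)) := alternatingGroup.isSimpleGroup (by simp)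
  haveI : Nontrivial H := φ.toEquiv.nontrivial
  haveI : IsSimpleGroup H := IsSimpleGroup.isSimpleGroup_of_surjective φ.symm.toMonoidHom φ.symm.surjective
  have hnc : ¬ IsMulCommutative H := fun hc => by
    letI : CommGroup H := { (inferInstance : Group H) with mul_comm := hc.1.comm }
    have := IsSimpleGroup.prime_card (α := H)
    rw [hH] at this
    norm_num at this
  have hnor : ∀ M : Subgroup H, M.Normal → M = ⊥ ∨ 24 < Nat.card M := fun M hM => by
    rcases hM.eq_bot_or_eq_top with e | e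
    · exact Or.inl e
    · rw [e, Subgroup.card_top, hH]; norm_num
  haveI : Fact (Nat.Prime 3) := ⟨Nat.prime_three⟩
  obtain ⟨x, hx⟩ := exists_prime_orderOf_dvd_card' 3
    (show 3 ∣ Nat.card ↥(H ⊓ centralizer ({c.t} : Set G)) by
      rw [c.card_centralizer_t H hidx ht]; norm_num)
  rw [← Subgroup.orderOf_coe] at hx
  have hxH : (x : G) ∈ H := x.2.1
  have hxt : (x : G) * c.t = c.t * x := mem_centralizer_singleton_iff.1 x.2.2
  set xH : H := ⟨x, hxH⟩
  have hxo : orderOf xH = 3 := by rw [← Subgroup.orderOf_coe]; exact hx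
  obtain ⟨K₀, hK₀i, hxK₀, huniq⟩ := exists_index_six (y := φ xH) (by rw [MulEquiv.orderOf_eq, hxo])
  set K : Subgroup H := K₀.comap φ.toMonoidHom with hK
  have hKi : K.index = 6 := by rw [hK, Subgroup.index_comap_of_surjective _ φ.surjective, hK₀i]
  set J : Subgroup G := K.map H.subtype with hJ
  set N := normalizer (J : Set G) with hN
  -- the conjugate under `t` also contains `x`
  let τ : H ≃* H := MulAut.conjNormal c.t
  have hτ : ∀ h : H, ((τ h : H) : G) = c.t * h * c.t⁻¹ := fun h => rfl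
  have hτx : τ xH = xH := Subtype.ext (by
    rw [hτ]
    show c.t * x * c.t⁻¹ = x
    rw [← hxt, mul_inv_cancel_right])
  obtain ⟨g, hg⟩ := huniq ((K.map τ.toMonoidHom).map φ.toMonoidHom)
    (((K.map τ.toMonoidHom).index_map_equiv φ).trans ((K.index_map_equiv τ).trans hKi))
    ⟨xH, ⟨xH, hxK₀, hτx⟩, rfl⟩
  obtain ⟨h₀, rfl⟩ := φ.surjective g
  have hmapτ : K.map τ.toMonoidHom = K.map (MulAut.conj h₀).toMonoidHom := by
    apply Subgroup.map_injective (f := φ.toMonoidHom) φ.injective
    rw [hg, Subgroup.map_map, hK]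
    conv_lhs => rw [← Subgroup.map_comap_eq_self_of_surjective (f := φ.toMonoidHom) φ.surjective K₀,
      Subgroup.map_map]
    congr 1
    refine MonoidHom.ext fun h => ?_
    show φ h₀ * φ h * (φ h₀)⁻¹ = φ (h₀ * h * h₀⁻¹)
    rw [map_mul, map_mul, map_inv]
  set u : G := (h₀ : G)⁻¹ * c.t with hu
  have huH : u ∉ H := fun h => ht ((mul_mem_cancel_left (inv_mem h₀.2)).1 h)
  have hJmap : J.map (MulAut.conj u).toMonoidHom = J := by
    have e : ((MulAut.conj u).toMonoidHom).comp H.subtype =
        (H.subtype.comp (MulAut.conj h₀⁻¹).toMonoidHom).comp τ.toMonoidHom :=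
      MonoidHom.ext fun h => by
        show u * h * u⁻¹ = (h₀ : G)⁻¹ * (τ h : G) * ((h₀ : G)⁻¹)⁻¹
        rw [hτ, hu]; group
    rw [hJ, Subgroup.map_map, e, ← Subgroup.map_map, hmapτ, ← Subgroup.map_map, Subgroup.map_map K]
    congr 1
    conv_rhs => rw [← Subgroup.map_id K]
    congr 1
    refine MonoidHom.ext fun h => ?_
    show h₀⁻¹ * (h₀ * h * h₀⁻¹) * h₀⁻¹⁻¹ = h
    group
  have huN : u ∈ N := by
    refine mem_normalizer_iff.2 fun h => ?_
    conv_rhs => rw [← hJmap]
    exact (Subgroup.mem_map_iff_mem (f := (MulAut.conj u).toMonoidHom) (MulAut.conj u).injective).symm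
  have hKnorm : normalizer (K : Set H) = K := by
    refine le_antisymm ?_ le_normalizer
    by_contra hlt
    have hlt' : K < normalizer (K : Set H) := lt_of_le_not_ge le_normalizer hlt
    have hne : normalizer (K : Set H) ≠ ⊤ := fun e => by
      haveI : K.Normal := Subgroup.normalizer_eq_top_iff.1 e
      rcases ‹K.Normal›.eq_bot_or_eq_top with e' | e'
      · rw [e', Subgroup.index_bot, hH] at hKi; omega
      · rw [e', Subgroup.index_top] at hKi; omega
    have h5 := SmallSimple.five_le_index hnc hne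
    have hdvd := Subgroup.index_dvd_of_le hlt'.le
    have hlt2 := Subgroup.index_strictAnti hlt'
    rw [hKi] at hdvd hlt2
    interval_cases (normalizer (K : Set H)).index <;> omega
  have hNH : N ⊓ H = J := by
    refine le_antisymm ?_ (le_inf le_normalizer (Subgroup.map_subtype_le K))
    intro n hn
    have : (⟨n, hn.2⟩ : H) ∈ normalizer (K : Set H) := by
      refine mem_normalizer_iff.2 fun h => ?_
      have := mem_normalizer_iff.1 hn.1 (h : G)
      rw [hJ] at this
      exact ((Subgroup.mem_map_iff_mem (f := H.subtype) H.subtype_injective).symm.trans this).trans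
        (Subgroup.mem_map_iff_mem (f := H.subtype) H.subtype_injective (x := ⟨n, hn.2⟩ * h * ⟨n, hn.2⟩⁻¹))
    rw [hKnorm] at this
    exact ⟨⟨n, hn.2⟩, this, rfl⟩
  have hK60 : Nat.card K = 60 := by
    have := K.card_mul_index
    rw [hKi, hH] at this
    omega
  have hN120 : Nat.card N = 120 := by
    have h1 : H.relIndex N = 2 := by
      have h : H.relIndex N ∣ 2 := hidx ▸ Subgroup.relIndex_dvd_index_of_normal H N
      rcases (Nat.dvd_prime Nat.prime_two).1 h with e | e
      · exact absurd (Subgroup.relIndex_eq_one.1 e huN) huH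
      · exact e
    have h2 := Subgroup.relIndex_mul_relIndex ⊥ (H ⊓ N) N bot_le inf_le_right
    rw [relIndex_bot_left, relIndex_bot_left, Subgroup.inf_relIndex_right, h1, inf_comm, hNH, hJ,
      Subgroup.card_map_of_injective H.subtype_injective, hK60] at h2
    omega
  have hNi : N.index = 6 := by
    have := N.card_mul_index
    rw [hN120, card_G H hidx, hH] at this
    omega
  have hcore := c.normalCore_eq_bot H hidx ht (center_eq_one H hnc)
    (c.no_central_24 H hidx ht hnc (by omega)) hnor N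
    ⟨by rw [hNH, hJ, Subgroup.card_map_of_injective H.subtype_injective, hK60],
      fun _ => ⟨inferInstance, by omega⟩⟩
  exact DihedralCentTools.nonempty_mulEquiv_perm N hNi (by rw [card_G H hidx, hH]; rfl) hcore

theorem main : (Nat.card G = 48 ∧ centralizer ({c.t} : Set G) = ⊤ ∧ Group.IsSolvable G) ∨
    (¬ Group.IsSolvable G ∧ Nonempty (G ≃* Equiv.Perm (Fin 6))) := by
  classical
  obtain ⟨D⟩ := c.dihedral_cent H hidx ht
  have hCmax : Nat.card G = 48 → centralizer ({c.t} : Set G) = ⊤ := fun h48 =>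
    Subgroup.eq_top_of_card_eq _ (by rw [c.card_ct, h48])
  have hns : ¬ Group.IsSolvable H → ¬ Group.IsSolvable G := fun hn hs => hn inferInstance
  rcases Cfsg.Agent.S3035.result D.t D.ht ⟨D.e⟩ with h | ⟨⟨φ⟩⟩ | ⟨⟨φ⟩⟩ | ⟨⟨φ⟩⟩ | ⟨⟨φ⟩⟩
  · exfalso
    have hO : oddCore H = ⊥ := c.oddCore_eq_bot H hidx
    rw [hO, sup_bot_eq] at h
    have := D.card_C
    rw [show D.C = centralizer ({D.t} : Set H) from rfl, h, Subgroup.card_top] at this
    have h48 : 48 ∣ Nat.card G := c.card_ct ▸ Subgroup.card_subgroup_dvd_card _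
    rw [card_G H hidx, this] at h48
    omega
  · have hH : Nat.card H = 24 := by rw [Nat.card_congr φ.toEquiv, Nat.card_perm, Nat.card_fin]; rfl
    have h48 : Nat.card G = 48 := by rw [card_G H hidx, hH]
    refine Or.inl ⟨h48, hCmax h48, ?_⟩
    haveI : Group.IsSolvable (Equiv.Perm (Fin 4)) := Cfsg.Agent.S4203.solvable_perm_four
    haveI : Group.IsSolvable Mdl := inferInstance
    have hr : c.f.range = ⊤ := c.range.trans (hCmax h48)
    exact solvable_of_surjective (f := c.f) (MonoidHom.range_eq_top.1 hr)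
  · exact (c.no_five H hidx ht φ).elim
  · obtain ⟨hs, hcard⟩ := DihedralCentTools.sl32
    haveI : Nontrivial H := φ.toEquiv.nontrivial
    haveI : IsSimpleGroup H := IsSimpleGroup.isSimpleGroup_of_surjective φ.symm.toMonoidHom φ.symm.surjective
    exact (c.no_seven H hidx ht (by rw [Nat.card_congr φ.toEquiv, hcard])).elim
  · refine Or.inr ⟨hns fun hs => ?_, c.iso_six H hidx ht φ⟩
    haveI := hs
    haveI : IsSimpleGroup (alternatingGroup (Fin 6)) := alternatingGroup.isSimpleGroup (by simp)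
    haveI : Group.IsSolvable (alternatingGroup (Fin 6)) :=
      solvable_of_surjective (f := φ.toMonoidHom) φ.surjective
    have hc := (IsSimpleGroup.comm_iff_isSolvable (G := alternatingGroup (Fin 6))).2 inferInstance
    letI : CommGroup (alternatingGroup (Fin 6)) :=
      { (inferInstance : Group (alternatingGroup (Fin 6))) with mul_comm := hc }
    have := IsSimpleGroup.prime_card (α := alternatingGroup (Fin 6))
    rw [nat_card_alternatingGroup, Nat.card_fin] at this
    norm_num [Nat.factorial] at this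

end Config

end Cfsg.Agent.ZTwoSFour
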