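import Mathlib

/-!
# The group `Z₂ × S₄` and its Sylow 2-subgroup `Z₂ × D₈`

Finite facts, checked by evaluation.
-/

set_option autoImplicit false
set_option maxRecDepth 100000

namespace Cfsg.Agent.ZTwoSFour

open Equiv

/-- `Z₂ × S₄`. -/
abbrev Mdl : Type := Multiplicative (ZMod 2) × Perm (Fin 4)

/-- `Z₂ × D₈`. -/
abbrev Syl : Type := Multiplicative (ZMod 2) × DihedralGroup 4

/-- A four-cycle with square `(0 1)(2 3)`. -/
def rot : Perm (Fin 4) := swap 0 2 * swap 2 1 * swap 1 3

/-- The embedding of the dihedral group of order eight into `S₄`. -/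
def iotaFun : DihedralGroup 4 → Perm (Fin 4)
  | DihedralGroup.r i => rot ^ i.val
  | DihedralGroup.sr i => swap 0 1 * rot ^ i.val

theorem iota_mul : ∀ a b : DihedralGroup 4, iotaFun (a * b) = iotaFun a * iotaFun b := by
  decide +kernel

/-- The embedding as a homomorphism. -/
def iota : DihedralGroup 4 →* Perm (Fin 4) :=
  MonoidHom.mk' iotaFun iota_mul

/-- The embedding of `Z₂ × D₈`. -/
def sylHom : Syl →* Mdl := (MonoidHom.id _).prodMap iota

theorem sylHom_injective : Function.Injective sylHom := by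
  have : ∀ a b : Syl, sylHom a = sylHom b → a = b := by decide +kernel
  exact fun a b => this a b

/-- The central involution. -/
def t0 : Mdl := (Multiplicative.ofAdd 1, 1)

/-- The involution in the derived subgroup. -/
def z0 : Mdl := (1, swap 0 1 * swap 2 3)

/-- A second involution of the four-group. -/
def v0 : Mdl := (1, swap 0 2 * swap 1 3)

/-- A transposition. -/
def a0 : Mdl := (1, swap 0 1)

theorem central_eq : ∀ u : Mdl, (∀ v : Mdl, v * u = u * v) → u * u = 1 → u ≠ 1 → u = t0 := by
  decide +kernel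

theorem involution_cases : ∀ u : Mdl, u * u = 1 → u ≠ 1 →
    u = t0 ∨ ∃ c : Mdl, c * u * c⁻¹ = z0 ∨ c * u * c⁻¹ = t0 * z0 ∨ c * u * c⁻¹ = a0 ∨
      c * u * c⁻¹ = t0 * a0 := by
  decide +kernel

theorem syl_commutator : ∀ a b : Syl,
    a * b * a⁻¹ * b⁻¹ = 1 ∨ a * b * a⁻¹ * b⁻¹ = (1, DihedralGroup.r 2) := by
  decide +kernel

theorem syl_square : ∀ a : Syl, a * a = 1 ∨ a * a = (1, DihedralGroup.r 2) := by
  decide +kernel

theorem syl_central : ∀ a : Syl, a * (1, DihedralGroup.r 2) = (1, DihedralGroup.r 2) * a := by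
  decide +kernel

theorem sylHom_z : sylHom (1, DihedralGroup.r 2) = z0 := by decide +kernel

theorem sylHom_t : sylHom (Multiplicative.ofAdd 1, 1) = t0 := by decide +kernel

theorem sylHom_tz : t0 * z0 = sylHom (Multiplicative.ofAdd 1, DihedralGroup.r 2) := by
  decide +kernel

theorem syl_central' : ∀ a : Syl, a * ((Multiplicative.ofAdd 1, DihedralGroup.r 2) : Syl) =
    (Multiplicative.ofAdd 1, DihedralGroup.r 2) * a := by
  decide +kernel

theorem rot_sq : sylHom (1, DihedralGroup.r 1) * sylHom (1, DihedralGroup.r 1) = z0 := by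
  decide +kernel

theorem tz_ne : t0 * z0 ≠ z0 := by decide +kernel

theorem z_ne : z0 ≠ 1 := by decide +kernel

theorem t_ne : t0 ≠ 1 := by decide +kernel

theorem a_ne : a0 ≠ t0 := by decide +kernel

theorem z_sq : z0 * z0 = 1 := by decide +kernel

theorem t_sq : t0 ^ 2 = 1 := by decide +kernel

theorem za : z0 * a0 = a0 * z0 := by decide +kernel

/-- The two subgroups `D₈` not containing the central involution. -/
def side (ε : Bool) (d : DihedralGroup 4) : Syl :=
  (if ε then Multiplicative.ofAdd (if iota d = 1 then 0 else if Perm.sign (iota d) = 1 then 0 else 1)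
    else 1, d)

theorem side_mul : ∀ ε, ∀ a b : DihedralGroup 4, side ε (a * b) = side ε a * side ε b := by
  decide +kernel

/-- The embeddings as homomorphisms. -/
def sideHom (ε : Bool) : DihedralGroup 4 →* Syl := MonoidHom.mk' (side ε) (side_mul ε)

theorem side_injective (ε : Bool) : Function.Injective (sideHom ε) := fun _ _ h =>
  congrArg Prod.snd h

theorem t_notMem : ∀ ε, ∀ d : DihedralGroup 4, sylHom (side ε d) ≠ t0 := by decide +kernel

theorem side_involution : ∀ ε, ∀ d : DihedralGroup 4, d * d = 1 → d ≠ 1 →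
    ∃ c : Mdl, c * sylHom (side ε d) * c⁻¹ = z0 ∨
      c * sylHom (side ε d) * c⁻¹ = if ε then t0 * a0 else a0 := by
  decide +kernel

/-- `S₅` has no involution whose centralizer has order 24. -/
theorem perm_five_centralizer : ∀ l : Perm (Fin 5), l * l = 1 →
    (Finset.univ.filter fun h : Perm (Fin 5) => l * h = h * l).card ≠ 24 := by
  decide +kernel

end Cfsg.Agent.ZTwoSFour
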